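import Groth.Agent.Ega4fib.H172.RelClosure

/-!
# Points having a generization of small codimension in the fibre lying in a given set

For `f : X ⟶ S` locally of finite presentation, `Z` locally constructible in `X` and `k : ℕ`, the set
of `x` which are specializations, inside their fibre `X_s`, of some `z ∈ Z` with
`dim 𝒪_{X_s, z} ≤ k`, is locally constructible.  The dimension of the local ring of the fibre is
expressed as the difference between `fibreDimAt f z` and the transcendence degree of
`κ(z)` over `κ(f z)`.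
-/

set_option autoImplicit false

universe u

namespace Groth.Agent.Ega4fib.H172.CodimLocus

open AlgebraicGeometry CategoryTheory CategoryTheory.Limits Topology
open Groth.Agent.Ega4fib.H172.FibDimBC Groth.Agent.Ega4fib.H172.FibDimConstr
open Groth.Agent.Ega4fib.H172.RelClosure Groth.Agent.CycB.RelDim
open Groth.Agent.VarietyA.LocDim

variable {X Y S T : Scheme.{u}}

/-- The points with a generization in their fibre lying in `Z` and of codimension at most `k` in the
fibre. -/
def codimLocus (f : X ⟶ S) (Z : Set X) (k : ℕ) : Set X :=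
  {x | ∃ z ∈ Z, f z = f x ∧ z ⤳ x ∧ ∃ n : ℕ, rtd f z = n ∧
    FlatMor.fibreDimAt f z ≤ ((k + n : ℕ) : WithBot ℕ∞)}

theorem codimLocus_iUnion {ι : Sort*} (f : X ⟶ S) (Z : ι → Set X) (k : ℕ) :
    codimLocus f (⋃ i, Z i) k = ⋃ i, codimLocus f (Z i) k := by
  ext x
  simp only [codimLocus, Set.mem_iUnion, Set.mem_ofPred_eq]
  constructor
  · rintro ⟨z, ⟨i, hz⟩, h⟩
    exact ⟨i, z, hz, h⟩
  · rintro ⟨i, z, hz, h⟩
    exact ⟨z, ⟨i, hz⟩, h⟩

/-- The set of points `t` of `T` where the codimension of `T` in `X` along the fibre is at most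
`k`. -/
def codimSet (f : X ⟶ S) (ι : T ⟶ X) (k : ℕ) : Set T :=
  {t | ∃ d : ℕ, FlatMor.fibreDimAt (ι ≫ f) t = d ∧
    FlatMor.fibreDimAt f (ι t) ≤ ((k + d : ℕ) : WithBot ℕ∞)}

theorem codimLocus_range_eq (f : X ⟶ S) [LocallyOfFiniteType f] (ι : T ⟶ X)
    [LocallyOfFiniteType ι] (h0 : ∀ t, rtd ι t = 0) (k : ℕ) :
    codimLocus f (Set.range ι) k = relClosure f (ι '' codimSet f ι k) := by
  have hr : ∀ t, rtd (ι ≫ f) t = rtd f (ι t) := fun t => by rw [rtd_comp, h0, add_zero]
  ext x
  constructor
  · rintro ⟨_, ⟨t, rfl⟩, hf, hx, n, hn, hd⟩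
    refine ⟨ι t, ⟨t, ?_, rfl⟩, hf, hx⟩
    obtain ⟨d, hd'⟩ := Groth.Agent.Flat2D.FibDimNat.exists_nat_fibreDimAt (ι ≫ f) t
    refine ⟨d, hd', hd.trans ?_⟩
    have h1 := rtd_le_of_fibreDimAt (ι ≫ f) (specializes_refl t) rfl hd'.le
    rw [hr, hn] at h1
    have h2 : n ≤ d := by exact_mod_cast h1
    have h3 : k + n ≤ k + d := by omega
    exact_mod_cast h3
  · rintro ⟨_, ⟨t, ⟨d, hd, hd'⟩, rfl⟩, hf, hx⟩
    obtain ⟨t', ht', hft', -, n, hn, hn'⟩ := exists_fibGeneric_rtd_eq (ι ≫ f) t
    have hnd : n = d := by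
      rw [hd] at hn'
      exact_mod_cast hn'.symm
    subst hnd
    have hft : f (ι t') = f (ι t) := hft'
    have hsp : ι t' ⤳ ι t := ht'.map ι.continuous
    refine ⟨ι t', ⟨t', rfl⟩, hft.trans hf, hsp.trans hx, n, ?_, ?_⟩
    · rw [← hr, hn]
    · exact (fibreDimAt_le_of_specializes f hsp hft).trans hd'

/-- Boundedness of the fibre dimension on a quasi-compact scheme. -/
theorem exists_bound_fibreDimAt (f : X ⟶ S) [LocallyOfFiniteType f] [CompactSpace X] :
    ∃ N : ℕ, ∀ x : X, FlatMor.fibreDimAt f x ≤ N := by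
  obtain ⟨N, hN⟩ := isCompact_univ.elim_directed_cover
    (fun n : ℕ => {x : X | FlatMor.fibreDimAt f x ≤ n})
    (fun n => Groth.Agent.S0402.result f n) (fun x _ => by
      obtain ⟨n, hn⟩ := Groth.Agent.Flat2D.FibDimNat.exists_nat_fibreDimAt f x
      exact Set.mem_iUnion.mpr ⟨n, hn.le⟩) (by
      refine Monotone.directed_le fun a b hab x hx => ?_
      exact le_trans (show FlatMor.fibreDimAt f x ≤ a from hx) (by exact_mod_cast hab))
  exact ⟨N, fun x => hN (Set.mem_univ x)⟩

theorem isLocallyConstructible_codimSet {A B C : CommRingCat.{u}} (φ : A ⟶ B) (ψ : B ⟶ C)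
    (hφ : φ.hom.FinitePresentation) (hψ : ψ.hom.FinitePresentation) (k : ℕ) :
    IsLocallyConstructible (codimSet (Spec.map φ) (Spec.map ψ) k) := by
  have h1 : LocallyOfFinitePresentation (Spec.map φ) := by
    rw [HasRingHomProperty.Spec_iff (P := @LocallyOfFinitePresentation)]
    exact hφ
  have h2 : LocallyOfFinitePresentation (Spec.map ψ) := by
    rw [HasRingHomProperty.Spec_iff (P := @LocallyOfFinitePresentation)]
    exact hψ
  obtain ⟨N, hN⟩ := exists_bound_fibreDimAt (Spec.map ψ ≫ Spec.map φ)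
  have h3 : codimSet (Spec.map φ) (Spec.map ψ) k = ⋃ d : Fin (N + 1),
      ({t | FlatMor.fibreDimAt (Spec.map ψ ≫ Spec.map φ) t = (d.1 : WithBot ℕ∞)} ∩
        (Spec.map ψ) ⁻¹' {x | FlatMor.fibreDimAt (Spec.map φ) x ≤ ((k + d.1 : ℕ) : WithBot ℕ∞)}) := by
    ext t
    simp only [Set.mem_iUnion]
    constructor
    · rintro ⟨d, hd, hd'⟩
      have h4 := hN t
      rw [hd] at h4
      have h5 : d ≤ N := by exact_mod_cast h4
      exact ⟨⟨d, by omega⟩, hd, hd'⟩
    · rintro ⟨d, hd, hd'⟩
      exact ⟨d.1, hd, hd'⟩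
  rw [h3]
  refine .iUnion fun d => ?_
  refine (isLocallyConstructible_fibreDimAt_eq _ _).inter ?_
  have h6 := isLocallyConstructible_fibreDimAt_le (Spec.map φ) (k + d.1)
  have h7 := IsLocallyConstructible.isConstructible (X := PrimeSpectrum B) h6
  exact ((Spec.map ψ).isConstructible_preimage h7).isLocallyConstructible

/-- A basic constructible set is the image of a preimmersion of finite presentation. -/
theorem exists_piece {B : CommRingCat.{u}} (c : PrimeSpectrum.BasicConstructibleSetData B) :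
    ∃ (C : CommRingCat.{u}) (ψ : B ⟶ C), ψ.hom.FinitePresentation ∧
      Set.range (Spec.map ψ) = c.toSet ∧ ∀ t, rtd (Spec.map ψ) t = 0 := by
  let I : Ideal B := Ideal.span (Set.range c.g)
  let g : B ⧸ I := Ideal.Quotient.mk I c.f
  let ψ₁ : B →+* B ⧸ I := Ideal.Quotient.mk I
  let ψ₂ : (B ⧸ I) →+* Localization.Away g := algebraMap _ _
  have hI : I.FG := ⟨(Set.finite_range c.g).toFinset, by simp [I]⟩
  refine ⟨.of (Localization.Away g), CommRingCat.ofHom (ψ₂.comp ψ₁), ?_, ?_, ?_⟩
  · have h1 : ψ₁.FinitePresentation := by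
      refine RingHom.FinitePresentation.of_surjective _ Ideal.Quotient.mk_surjective ?_
      rw [Ideal.mk_ker]; exact hI
    have h2 : ψ₂.FinitePresentation := by
      have : Algebra.FinitePresentation (B ⧸ I) (Localization.Away g) :=
        IsLocalization.Away.finitePresentation g
      exact RingHom.finitePresentation_algebraMap.mpr this
    exact h2.comp h1
  · change Set.range (PrimeSpectrum.comap (ψ₂.comp ψ₁)) = _
    trans PrimeSpectrum.comap ψ₁ '' (Set.range (PrimeSpectrum.comap ψ₂))
    · rw [← Set.range_comp]; rfl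
    · rw [PrimeSpectrum.localization_away_comap_range _ g, ← PrimeSpectrum.comap_basicOpen,
        TopologicalSpace.Opens.coe_comap, ContinuousMap.coe_mk, Set.image_preimage_eq_inter_range,
        range_comap_of_surjective _ _ Ideal.Quotient.mk_surjective,
        PrimeSpectrum.BasicConstructibleSetData.toSet, Set.sdiff_eq_compl_inter,
        PrimeSpectrum.basicOpen_eq_zeroLocus_compl, Ideal.mk_ker, PrimeSpectrum.zeroLocus_span]
  · intro t
    have h1 : IsPreimmersion (Spec.map (CommRingCat.ofHom ψ₁)) := by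
      have := IsClosedImmersion.spec_of_surjective (CommRingCat.ofHom ψ₁)
        Ideal.Quotient.mk_surjective
      infer_instance
    have h2 : IsOpenImmersion (Spec.map (CommRingCat.ofHom ψ₂)) :=
      IsOpenImmersion.of_isLocalization g
    have h3 : Spec.map (CommRingCat.ofHom (ψ₂.comp ψ₁)) =
        Spec.map (CommRingCat.ofHom ψ₂) ≫ Spec.map (CommRingCat.ofHom ψ₁) := by
      rw [← Spec.map_comp]; rfl
    rw [h3, rtd_comp, rtd_eq_zero_of_isPreimmersion, rtd_eq_zero_of_isPreimmersion, add_zero]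

theorem isLocallyConstructible_codimLocus_Spec {A B : CommRingCat.{u}} (φ : A ⟶ B)
    (hφ : φ.hom.FinitePresentation) {Z : Set (PrimeSpectrum B)} (hZ : IsConstructible Z) (k : ℕ) :
    IsLocallyConstructible (codimLocus (Spec.map φ) Z k) := by
  have hf : LocallyOfFinitePresentation (Spec.map φ) := by
    rw [HasRingHomProperty.Spec_iff (P := @LocallyOfFinitePresentation)]
    exact hφ
  obtain ⟨D, rfl⟩ := PrimeSpectrum.exists_constructibleSetData_iff.mpr hZ
  have h1 : (D.toSet : Set (PrimeSpectrum B)) = ⋃ c : D, c.1.toSet := by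
    ext x
    simp [PrimeSpectrum.ConstructibleSetData.toSet]
  have h2 : codimLocus (Spec.map φ) D.toSet k =
      ⋃ c : D, codimLocus (Spec.map φ) (c.1.toSet : Set (PrimeSpectrum B)) k :=
    (congrArg (fun Z : Set (PrimeSpectrum B) => codimLocus (Spec.map φ) Z k) h1).trans
      (codimLocus_iUnion (Spec.map φ) _ k)
  rw [h2]
  refine .iUnion fun c => ?_
  obtain ⟨C, ψ, hψ, hr, h0⟩ := exists_piece c.1
  have hι : LocallyOfFinitePresentation (Spec.map ψ) := by
    rw [HasRingHomProperty.Spec_iff (P := @LocallyOfFinitePresentation)]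
    exact hψ
  rw [← hr, codimLocus_range_eq (Spec.map φ) (Spec.map ψ) h0 k]
  refine isLocallyConstructible_relClosure _ ?_
  exact (Spec.map ψ).isLocallyConstructible_image (isLocallyConstructible_codimSet φ ψ hφ hψ k)

/-- The set of points with a generization in their fibre which lies in a locally constructible set
and has codimension at most `k` in the fibre is locally constructible. -/
theorem isLocallyConstructible_codimLocus (f : X ⟶ S) [LocallyOfFinitePresentation f] {Z : Set X}
    (hZ : IsLocallyConstructible Z) (k : ℕ) : IsLocallyConstructible (codimLocus f Z k) := by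
  refine isLocallyConstructible_of_charts f fun A B φ j i _ _ hφ h => ?_
  have hZ' : IsConstructible (X := PrimeSpectrum B) (j ⁻¹' Z) :=
    IsLocallyConstructible.isConstructible (X := PrimeSpectrum B)
      (hZ.preimage_of_isOpenEmbedding j.isOpenEmbedding)
  have h1 := isLocallyConstructible_codimLocus_Spec φ hφ hZ' k
  have hr : ∀ u, rtd (Spec.map φ) u = rtd f (j u) := by
    intro u
    have h2 : rtd (j ≫ f) u = rtd f (j u) := by
      rw [rtd_comp, rtd_eq_zero_of_isPreimmersion j u, add_zero]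
    have h3 : rtd (Spec.map φ ≫ i) u = rtd (Spec.map φ) u := by
      rw [rtd_comp, rtd_eq_zero_of_isPreimmersion i _, zero_add]
    rw [← h3, ← h2, h]
  have h2 : j ⁻¹' (codimLocus f Z k) = codimLocus (Spec.map φ) (j ⁻¹' Z) k := by
    have hji : ∀ u : ↥(Spec B), f (j u) = i (Spec.map φ u) := by
      intro u
      rw [← Scheme.Hom.comp_apply, h, Scheme.Hom.comp_apply]
    ext u
    constructor
    · rintro ⟨w, hw, hfw, hwu, n, hn, hd⟩
      obtain ⟨v, rfl⟩ : w ∈ Set.range j := hwu.mem_open j.isOpenEmbedding.isOpen_range ⟨u, rfl⟩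
      refine ⟨v, hw, ?_, j.isOpenEmbedding.isInducing.specializes_iff.mp hwu, n, ?_, ?_⟩
      · rw [hji, hji] at hfw
        exact i.isOpenEmbedding.injective hfw
      · rw [hr, hn]
      · rw [← fibreDimAt_chart f (Spec.map φ) j i h v]
        exact hd
    · rintro ⟨v, hv, hfv, hvu, n, hn, hd⟩
      refine ⟨j v, hv, by rw [hji, hji, hfv], hvu.map j.continuous, n, ?_, ?_⟩
      · rw [← hr, hn]
      · rw [fibreDimAt_chart f (Spec.map φ) j i h v]
        exact hd
  rw [h2]
  exact IsLocallyConstructible.isConstructible (X := PrimeSpectrum B) h1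

end Groth.Agent.Ega4fib.H172.CodimLocus
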