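import Groth.Agent.Ega4fib.H172.FibDimBC
import Groth.Agent.S0402
import Groth.Agent.UnramB.NoethModel
import Groth.Agent.Flat2D.AffData
import Groth.Agent.Flat2D.NoethConstr
import Mathlib.AlgebraicGeometry.Morphisms.FinitePresentation
import Mathlib.RingTheory.Spectrum.Prime.Chevalley

/-!
# The level sets of `x ↦ fibreDimAt f x` are locally constructible

* `isLocallyConstructible_of_charts`: local constructibility in the source of a morphism locally of
  finite presentation can be tested on affine charts;
* `isLocallyConstructible_fibreDimAt_le`, `isLocallyConstructible_fibreDimAt_eq`.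
-/

set_option autoImplicit false

universe u

namespace Groth.Agent.Ega4fib.H172.FibDimConstr

open AlgebraicGeometry CategoryTheory CategoryTheory.Limits Topology
open Groth.Agent.Ega4fib.H172.FibDimBC

variable {X Y S : Scheme.{u}}

/-- Local constructibility can be tested on open immersions covering the space. -/
theorem isLocallyConstructible_of_forall_exists {E : Set X}
    (h : ∀ x : X, ∃ (U : Scheme.{u}) (j : U ⟶ X) (_ : IsOpenImmersion j), x ∈ Set.range j ∧
      IsLocallyConstructible (j ⁻¹' E)) : IsLocallyConstructible E := by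
  choose U j hj hx hE using h
  refine .of_isOpenCover (U := fun x => (j x).opensRange) ?_ fun x => ?_
  · rw [TopologicalSpace.IsOpenCover, eq_top_iff]
    intro x _
    rw [TopologicalSpace.Opens.mem_iSup]
    exact ⟨x, hx x⟩
  · exact Groth.Agent.Flat2D.AffData.isLocallyConstructible_range_val_preimage (j x)
      (j x).isOpenEmbedding (hE x)

/-- Local constructibility of a subset of the source, tested on charts. -/
theorem isLocallyConstructible_of_charts (f : X ⟶ S) [LocallyOfFinitePresentation f] {E : Set X}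
    (h : ∀ (A B : CommRingCat.{u}) (φ : A ⟶ B) (j : Spec B ⟶ X) (i : Spec A ⟶ S)
      [IsOpenImmersion j] [IsOpenImmersion i], φ.hom.FinitePresentation →
      j ≫ f = Spec.map φ ≫ i → IsConstructible (j ⁻¹' E)) : IsLocallyConstructible E := by
  refine isLocallyConstructible_of_forall_exists fun x => ?_
  obtain ⟨V, hV, hxV, -⟩ := exists_isAffineOpen_mem_and_subset (U := ⊤) (x := f x) (by trivial)
  obtain ⟨U, hU, hxU, hUV⟩ := exists_isAffineOpen_mem_and_subset (U := f ⁻¹ᵁ V) (x := x) hxV
  have e : U ≤ f ⁻¹ᵁ V := hUV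
  refine ⟨_, hU.fromSpec, inferInstance, ?_, (h _ _ (f.appLE V U e) hU.fromSpec hV.fromSpec
    (f.finitePresentation_appLE hV hU e)
    (IsAffineOpen.SpecMap_appLE_fromSpec f hV hU e).symm).isLocallyConstructible⟩
  rw [IsAffineOpen.range_fromSpec]
  exact hxU

theorem isPullback_of_mono {U V : Scheme.{u}} (φ : U ⟶ V) (i : V ⟶ S) [Mono i] :
    IsPullback (𝟙 U) φ (φ ≫ i) i := by
  have h1 : IsPullback φ (𝟙 U) (𝟙 V) φ := IsPullback.of_vert_isIso ⟨by simp⟩
  have h2 : IsPullback (𝟙 V) (𝟙 V) i i := IsKernelPair.id_of_mono i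
  have h3 := h1.paste_horiz h2
  rw [Category.comp_id] at h3
  exact h3.flip

/-- The local fibre dimension on a chart. -/
theorem fibreDimAt_chart (f : X ⟶ S) [LocallyOfFiniteType f] {U V : Scheme.{u}} (φ : U ⟶ V)
    (j : U ⟶ X) (i : V ⟶ S) [IsOpenImmersion j] [IsOpenImmersion i] (h : j ≫ f = φ ≫ i) (u : U) :
    FlatMor.fibreDimAt f (j u) = FlatMor.fibreDimAt φ u := by
  rw [← fibreDimAt_isOpenImmersion_comp j f u, h]
  have : LocallyOfFiniteType (φ ≫ i) := by rw [← h]; infer_instance
  exact (fibreDimAt_of_isPullback (isPullback_of_mono φ i) u).symm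

theorem isConstructible_comap_preimage {R T : Type*} [CommRing R] [CommRing T] (f : R →+* T)
    {E : Set (PrimeSpectrum R)} (hE : IsConstructible E) :
    IsConstructible (PrimeSpectrum.comap f ⁻¹' E) := by
  obtain ⟨D, rfl⟩ := PrimeSpectrum.exists_constructibleSetData_iff.mpr hE
  rw [← PrimeSpectrum.ConstructibleSetData.toSet_map]
  exact PrimeSpectrum.ConstructibleSetData.isConstructible_toSet _

/-- On a Noetherian scheme an open set is constructible; transported along a base change. -/
theorem isConstructible_fibreDimAt_le_Spec {A B : CommRingCat.{u}} (φ : A ⟶ B)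
    (hφ : φ.hom.FinitePresentation) (n : ℕ) :
    IsConstructible {x : ↥(Spec B) | FlatMor.fibreDimAt (Spec.map φ) x ≤ n} := by
  obtain ⟨A₀, B₀, C₀, φ₀, ψ₀, a, b, c, hn, hφ₀, hψ₀, h2, h1⟩ :=
    Groth.Agent.UnramB.NoethModel.exists_noetherian_model φ (𝟙 B) hφ
      (RingHom.FinitePresentation.id _)
  have hB₀ : IsNoetherianRing B₀ := by
    algebraize [φ₀.hom]
    exact Algebra.FiniteType.isNoetherianRing A₀ B₀
  have hlft : LocallyOfFiniteType (Spec.map φ₀) := by
    rw [HasRingHomProperty.Spec_iff (P := @LocallyOfFiniteType)]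
    exact RingHom.FiniteType.of_finitePresentation hφ₀
  have hp := isPullback_SpecMap_of_isPushout _ _ _ _ h2
  have hopen := Groth.Agent.S0402.result (Spec.map φ₀) n
  have hc : IsConstructible {x : ↥(Spec B₀) | FlatMor.fibreDimAt (Spec.map φ₀) x ≤ n} := by
    have : TopologicalSpace.NoetherianSpace ↥(Spec B₀) :=
      inferInstanceAs (TopologicalSpace.NoetherianSpace (PrimeSpectrum B₀))
    exact Groth.Agent.Flat2D.NoethConstr.isConstructible_of_isOpen hopen
  have h3 : {x : ↥(Spec B) | FlatMor.fibreDimAt (Spec.map φ) x ≤ n} =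
      PrimeSpectrum.comap b.hom ⁻¹' {x : ↥(Spec B₀) | FlatMor.fibreDimAt (Spec.map φ₀) x ≤ n} := by
    ext x
    have h4 := fibreDimAt_of_isPullback hp.flip x
    change FlatMor.fibreDimAt (Spec.map φ) x ≤ n ↔ FlatMor.fibreDimAt (Spec.map φ₀) _ ≤ n
    rw [h4]
    rfl
  exact h3 ▸ isConstructible_comap_preimage b.hom hc

theorem isLocallyConstructible_fibreDimAt_le (f : X ⟶ S) [LocallyOfFinitePresentation f] (n : ℕ) :
    IsLocallyConstructible {x : X | FlatMor.fibreDimAt f x ≤ n} := by
  refine isLocallyConstructible_of_charts f fun A B φ j i _ _ hφ h => ?_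
  convert isConstructible_fibreDimAt_le_Spec φ hφ n using 1
  ext u
  change FlatMor.fibreDimAt f (j u) ≤ n ↔ _
  rw [fibreDimAt_chart f (Spec.map φ) j i h u]
  rfl

theorem isLocallyConstructible_compl {T : Type*} [TopologicalSpace T] {s : Set T}
    (hs : IsLocallyConstructible s) : IsLocallyConstructible sᶜ := by
  intro x
  obtain ⟨U, hU, hU', h⟩ := hs x
  refine ⟨U, hU, hU', ?_⟩
  rw [Set.preimage_compl, isConstructible_compl]
  exact h

theorem isLocallyConstructible_fibreDimAt_lt (f : X ⟶ S) [LocallyOfFinitePresentation f] (n : ℕ) :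
    IsLocallyConstructible {x : X | FlatMor.fibreDimAt f x < n} := by
  rcases Nat.eq_zero_or_pos n with h0 | h0
  · convert IsLocallyConstructible.empty using 1
    rw [Set.eq_empty_iff_forall_notMem]
    intro x hx
    obtain ⟨m, hm⟩ := Groth.Agent.Flat2D.FibDimNat.exists_nat_fibreDimAt f x
    rw [Set.mem_ofPred_eq, hm, h0] at hx
    have : m < 0 := by exact_mod_cast hx
    omega
  · convert isLocallyConstructible_fibreDimAt_le f (n - 1) using 1
    ext x
    obtain ⟨m, hm⟩ := Groth.Agent.Flat2D.FibDimNat.exists_nat_fibreDimAt f x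
    rw [Set.mem_ofPred_eq, Set.mem_ofPred_eq, hm]
    constructor
    · intro h
      have h1 : m < n := by exact_mod_cast h
      have h2 : m ≤ n - 1 := by omega
      exact_mod_cast h2
    · intro h
      have h1 : m ≤ n - 1 := by exact_mod_cast h
      have h2 : m < n := by omega
      exact_mod_cast h2

theorem isLocallyConstructible_fibreDimAt_eq (f : X ⟶ S) [LocallyOfFinitePresentation f] (n : ℕ) :
    IsLocallyConstructible {x : X | FlatMor.fibreDimAt f x = n} := by
  have h := (isLocallyConstructible_fibreDimAt_le f n).inter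
    (isLocallyConstructible_compl (isLocallyConstructible_fibreDimAt_lt f n))
  convert h using 1
  ext x
  constructor
  · intro hx
    exact ⟨le_of_eq hx, not_lt_of_ge (le_of_eq hx.symm)⟩
  · rintro ⟨h1, h2⟩
    exact le_antisymm h1 (not_lt.mp h2)

end Groth.Agent.Ega4fib.H172.FibDimConstr
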