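import Groth.Agent.Ega4fib.H172.FibDimConstr
import Groth.Agent.Ega4fib.H146.DenseLocusSch
import Groth.Agent.CycB.RelDim4
import Groth.Agent.Ega43.FPOfComp

/-!
# The fibrewise closure of a locally constructible set is locally constructible

* `relClosure f W`: the points `x` which are specializations, inside their fibre, of a point of `W`;
* `isLocallyConstructible_relClosure`;
* `isLocallyConstructible_closure_fibre`: the same with the topological closure.
-/

set_option autoImplicit false

universe u

namespace Groth.Agent.Ega4fib.H172.RelClosure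

open AlgebraicGeometry CategoryTheory CategoryTheory.Limits Topology
open Groth.Agent.Ega4fib.H172.FibDimConstr Groth.Agent.Ega4fib.H146.DenseLocusSch
open Groth.Agent.CycB.RelDim

variable {X Y S : Scheme.{u}}

/-- The fibrewise closure of a subset, in terms of specializations. -/
def relClosure (f : X ⟶ S) (W : Set X) : Set X := {x | ∃ w ∈ W, f w = f x ∧ w ⤳ x}

theorem relClosure_subset_closure (f : X ⟶ S) (W : Set X) {x : X} (hx : x ∈ relClosure f W) :
    x ∈ closure (W ∩ f ⁻¹' {f x}) := by
  obtain ⟨w, hw, hfw, hwx⟩ := hx
  exact hwx.mem_closed isClosed_closure (subset_closure ⟨hw, hfw⟩)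

/-- Generizations inside the fibre lift along the projection of a fibre product. -/
theorem exists_lift (f : X ⟶ S) (g : Y ⟶ S) (t : ↥(pullback f g)) (w : Y)
    (hw : w ⤳ pullback.snd f g t) (hgw : g w = g (pullback.snd f g t)) :
    ∃ z : ↥(pullback f g), z ⤳ t ∧ pullback.fst f g z = pullback.fst f g t ∧
      pullback.snd f g z = w := by
  have hc : ∀ t : ↥(pullback f g), f (pullback.fst f g t) = g (pullback.snd f g t) := fun t =>
    congr($(pullback.condition (f := f) (g := g)) t)
  obtain ⟨m, hm, hmc⟩ := exists_flat_fiber_map (f := f) (g := g) (pullback.fst f g t)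
  have hy' : w ∈ Set.range (g.fiberι (f (pullback.fst f g t))) := by
    rw [Scheme.Hom.range_fiberι]
    exact hgw.trans (hc t).symm
  obtain ⟨y', rfl⟩ := hy'
  have h1 : g.fiberι (f (pullback.fst f g t)) (m ((pullback.fst f g).asFiber t)) =
      pullback.snd f g t := by
    have := congr($hmc ((pullback.fst f g).asFiber t))
    simp only [Scheme.Hom.comp_apply] at this
    rw [this, Scheme.Hom.fiberι_asFiber]
  have h2 : y' ⤳ m ((pullback.fst f g).asFiber t) := by
    refine (g.fiberι _).isEmbedding.isInducing.specializes_iff.mp ?_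
    rw [h1]; exact hw
  obtain ⟨z, hz, hmz⟩ := exists_specializes_of_flat m h2
  refine ⟨(pullback.fst f g).fiberι _ z, ?_, ?_, ?_⟩
  · have := hz.map ((pullback.fst f g).fiberι _).continuous
    rwa [Scheme.Hom.fiberι_asFiber] at this
  · have : (pullback.fst f g).fiberι (pullback.fst f g t) z ∈
        Set.range ((pullback.fst f g).fiberι (pullback.fst f g t)) := ⟨z, rfl⟩
    rw [Scheme.Hom.range_fiberι] at this
    exact this
  · have h4 := congr($hmc z)
    simp only [Scheme.Hom.comp_apply] at h4
    rw [← h4, hmz]

/-- affine case -/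
theorem isConstructible_relClosure_Spec {A B : CommRingCat.{u}} (φ : A ⟶ B)
    (hφ : φ.hom.FinitePresentation) {W : Set ↥(Spec B)} (hW : IsLocallyConstructible W) :
    IsLocallyConstructible (relClosure (Spec.map φ) W) := by
  let f := Spec.map φ
  have hf : LocallyOfFinitePresentation f := by
    rw [HasRingHomProperty.Spec_iff (P := @LocallyOfFinitePresentation)]
    exact hφ
  have hΔ : LocallyOfFinitePresentation (pullback.diagonal f) := by
    have : LocallyOfFinitePresentation (pullback.diagonal f ≫ pullback.fst f f) := by
      rw [pullback.diagonal_fst]; infer_instance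
    exact Groth.Agent.Ega43.FPOfComp.locallyOfFinitePresentation_of_comp _ (pullback.fst f f)
  have h1 : IsLocallyConstructible (Set.range (pullback.diagonal f)) := by
    simpa using (pullback.diagonal f).isLocallyConstructible_image (s := Set.univ) (by simp)
  have hWc : IsConstructible (X := PrimeSpectrum B) W :=
    IsLocallyConstructible.isConstructible (X := PrimeSpectrum B) hW
  have h2 : IsLocallyConstructible (pullback.snd f f ⁻¹' W) :=
    ((pullback.snd f f).isConstructible_preimage hWc).isLocallyConstructible
  have h3 := isLocallyConstructible_setOf_subset_closure (pullback.fst f f) h2 h1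
  convert h3 using 1
  ext x
  have hd1 : pullback.fst f f (pullback.diagonal f x) = x := by
    rw [← Scheme.Hom.comp_apply, pullback.diagonal_fst]; rfl
  have hd2 : pullback.snd f f (pullback.diagonal f x) = x := by
    rw [← Scheme.Hom.comp_apply, pullback.diagonal_snd]; rfl
  constructor
  · rintro ⟨w, hw, hfw, hwx⟩
    rintro _ ⟨⟨x', rfl⟩, hx'⟩
    have hx'' : x' = x := by
      have h5 : pullback.fst f f (pullback.diagonal f x') = x := hx'
      have h6 : pullback.fst f f (pullback.diagonal f x') = x' := by
        rw [← Scheme.Hom.comp_apply, pullback.diagonal_fst]; rfl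
      exact h6.symm.trans h5
    subst hx''
    obtain ⟨z, hz, hz1, hz2⟩ := exists_lift f f (pullback.diagonal f x') w
      (by rw [hd2]; exact hwx) (by rw [hd2]; exact hfw)
    refine hz.mem_closed isClosed_closure (subset_closure ⟨?_, ?_⟩)
    · rw [Set.mem_preimage, hz2]; exact hw
    · rw [Set.mem_preimage, hz1]; exact hx'
  · intro h
    have h4 : pullback.diagonal f x ∈ closure ((pullback.snd f f) ⁻¹' W ∩
        (pullback.fst f f) ⁻¹' {x}) := h ⟨⟨x, rfl⟩, hd1⟩
    have h5 : x ∈ closure (W ∩ f ⁻¹' {f x}) := by
      have h6 := image_closure_subset_closure_image (pullback.snd f f).continuous ⟨_, h4, rfl⟩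
      rw [hd2] at h6
      refine closure_mono ?_ h6
      rintro _ ⟨z, ⟨hz1, hz2⟩, rfl⟩
      refine ⟨hz1, ?_⟩
      have h7 : f (pullback.fst f f z) = f (pullback.snd f f z) :=
        congr($(pullback.condition (f := f) (g := f)) z)
      have h8 : pullback.fst f f z = x := hz2
      rw [h8] at h7
      exact h7.symm
    let _ := φ.hom.toAlgebra
    obtain ⟨z, hz, hzx, hz'⟩ := exists_specializes_of_mem_closure_fibre (R := A) (B := B) hWc h5
    exact ⟨z, hz, hz', hzx⟩

/-- The fibrewise closure of a locally constructible set is locally constructible. -/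
theorem isLocallyConstructible_relClosure (f : X ⟶ S) [LocallyOfFinitePresentation f] {W : Set X}
    (hW : IsLocallyConstructible W) : IsLocallyConstructible (relClosure f W) := by
  refine isLocallyConstructible_of_charts f fun A B φ j i _ _ hφ h => ?_
  have h1 := isConstructible_relClosure_Spec φ hφ (hW.preimage_of_isOpenEmbedding j.isOpenEmbedding)
  have h2 : j ⁻¹' (relClosure f W) = relClosure (Spec.map φ) (j ⁻¹' W) := by
    have hji : ∀ u : ↥(Spec B), f (j u) = i (Spec.map φ u) := by
      intro u
      rw [← Scheme.Hom.comp_apply, h, Scheme.Hom.comp_apply]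
    ext u
    constructor
    · rintro ⟨w, hw, hfw, hwu⟩
      obtain ⟨v, rfl⟩ : w ∈ Set.range j := hwu.mem_open j.isOpenEmbedding.isOpen_range ⟨u, rfl⟩
      refine ⟨v, hw, ?_, j.isOpenEmbedding.isInducing.specializes_iff.mp hwu⟩
      rw [hji, hji] at hfw
      exact i.isOpenEmbedding.injective hfw
    · rintro ⟨v, hv, hfv, hvu⟩
      exact ⟨j v, hv, by rw [hji, hji, hfv], hvu.map j.continuous⟩
  rw [h2]
  exact IsLocallyConstructible.isConstructible (X := PrimeSpectrum B) h1

end Groth.Agent.Ega4fib.H172.RelClosure
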